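import Groth.Agent.LBDesc.Sigma
import Mathlib.CategoryTheory.Limits.Shapes.Biproducts

/-!
A module on a scheme cut into disjoint open pieces is the product of the push forwards of its restrictions.
-/

set_option autoImplicit false
set_option backward.isDefEq.respectTransparency false
set_option backward.isDefEq.respectTransparency.types false
set_option linter.style.haveILetI false

universe u

open CategoryTheory CategoryTheory.Limits AlgebraicGeometry TopologicalSpace Opposite
open Groth.Agent.QC (res res_res res_self app_res)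

noncomputable section

namespace Groth.Agent.AVTransl

variable {Y : Scheme.{u}} {κ : Type u} {U : κ → Scheme.{u}} (j : ∀ i, U i ⟶ Y) [∀ i, IsOpenImmersion (j i)]

/-- The comparison to the product of the push forwards of the restrictions. -/
def decomp (M : Y.Modules) :
    M ⟶ ∏ᶜ fun i => (Scheme.Modules.pushforward (j i)).obj ((Scheme.Modules.restrictFunctor (j i)).obj M) :=
  Pi.lift fun i => (Scheme.Modules.restrictAdjunction (j i)).unit.app M

theorem decomp_π_app (M : Y.Modules) (i : κ) (V : Y.Opens) (m : Γ(M, V)) :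
    (Pi.π (fun i => (Scheme.Modules.pushforward (j i)).obj ((Scheme.Modules.restrictFunctor (j i)).obj M)) i).app V
      ((decomp j M).app V m) = res M ((j i).image_preimage_le V) m := by
  have h := congrArg (fun φ => φ.app V m) (Pi.lift_π (fun i => (Scheme.Modules.restrictAdjunction (j i)).unit.app M) i)
  exact h

theorem isIso_decomp (hdisj : Pairwise fun a b => Disjoint (j a).opensRange (j b).opensRange)
    (hcov : ∀ y : Y, ∃ i x, (j i).base x = y) (M : Y.Modules) : IsIso (decomp j M) := by
  rw [Scheme.Modules.Hom.isIso_iff_isIso_app]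
  intro V
  rw [ConcreteCategory.isIso_iff_bijective]
  have hloc : ∀ y ∈ V, ∃ i, y ∈ (j i) ''ᵁ ((j i) ⁻¹ᵁ V) := fun y hy => by
    obtain ⟨i, x, rfl⟩ := hcov y
    exact ⟨i, x, hy, rfl⟩
  refine ⟨fun a b hab => QC.section_eq_of_locally fun y hy => ?_, fun t => ?_⟩
  · obtain ⟨i, hi⟩ := hloc y hy
    refine ⟨_, (j i).image_preimage_le V, hi, ?_⟩
    have h := congrArg ((Pi.π (fun i => (Scheme.Modules.pushforward (j i)).obj
      ((Scheme.Modules.restrictFunctor (j i)).obj M)) i).app V) hab
    exact (decomp_π_app j M i V a).symm.trans (h.trans (decomp_π_app j M i V b))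
  · obtain ⟨m, hm, -⟩ := TopCat.Sheaf.existsUnique_gluing' (⟨M.presheaf, M.isSheaf⟩ : TopCat.Sheaf Ab Y)
      (fun i => (j i) ''ᵁ ((j i) ⁻¹ᵁ V)) V (fun i => homOfLE ((j i).image_preimage_le V))
      (fun y hy => Opens.mem_iSup.2 (hloc y hy))
      (fun i => (Pi.π (fun i => (Scheme.Modules.pushforward (j i)).obj
        ((Scheme.Modules.restrictFunctor (j i)).obj M)) i).app V t)
      (fun a b => by
        rcases eq_or_ne a b with rfl | hab
        · rfl
        · refine QC.section_eq_of_locally fun y hy => absurd hy fun hy => ?_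
          exact ((hdisj hab).le_bot ⟨(j a).image_le_opensRange _ hy.1, (j b).image_le_opensRange _ hy.2⟩).elim)
    exact ⟨m, LBDesc.pi_sections_ext _ fun i => (decomp_π_app j M i V m).trans (hm i)⟩

variable [Finite κ]

/-- Push forward of a module on a disjoint union of sections of `f`. -/
theorem nonempty_push_iso {S : Scheme.{u}} {j' : κ → (S ⟶ Y)} [∀ i, IsOpenImmersion (j' i)] (f : Y ⟶ S)
    (hj : ∀ i, j' i ≫ f = 𝟙 S) (hdisj : Pairwise fun a b => Disjoint (j' a).opensRange (j' b).opensRange)
    (hcov : ∀ y : Y, ∃ i x, (j' i).base x = y) (M : Y.Modules) :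
    Nonempty ((Scheme.Modules.pushforward f).obj M ≅ ∐ fun i => (Scheme.Modules.pullback (j' i)).obj M) := by
  haveI := isIso_decomp j' hdisj hcov M
  haveI : HasFiniteBiproducts S.Modules := HasFiniteBiproducts.of_hasFiniteProducts
  haveI : PreservesLimitsOfSize.{u, u} (Scheme.Modules.pushforward f) :=
    (Scheme.Modules.pullbackPushforwardAdjunction f).rightAdjoint_preservesLimits
  exact ⟨(Scheme.Modules.pushforward f).mapIso (asIso (decomp j' M)) ≪≫ PreservesProduct.iso _ _ ≪≫
    Pi.mapIso (fun i => (Scheme.Modules.pushforwardComp (j' i) f).app _ ≪≫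
      (Scheme.Modules.pushforwardCongr (hj i)).app _ ≪≫ (Scheme.Modules.pushforwardId S).app _ ≪≫
      (Scheme.Modules.restrictFunctorIsoPullback (j' i)).app M) ≪≫
    (biproduct.isoProduct _).symm ≪≫ biproduct.isoCoproduct _⟩

end Groth.Agent.AVTransl
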