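import Groth.Agent.AVTransl.Clopen
import Groth.Agent.AVDeg.PointFibre
import Groth.Agent.AgIsog.Kernel
import Groth.Agent.GrpBasic.Cartier
import Groth.Agent.FibCrit.GeomFibre
import Groth.Agent.EtInvariance.PushFF
import Groth.Agent.AlgSpLib.Reduced
import Groth.Agent.W7AffBC.Basic
import Groth.Agent.S0927

/-!
`π^* π_* E` for an isogeny in characteristic zero is the sum of the translates of `E` by the kernel.
-/

set_option autoImplicit false
set_option backward.isDefEq.respectTransparency false
set_option linter.style.haveILetI false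
set_option linter.unusedSectionVars false
set_option maxHeartbeats 1000000

universe u

open CategoryTheory CategoryTheory.Limits MonoidalCategory CartesianMonoidalCategory MonObj GrpObj AlgebraicGeometry TopologicalSpace

noncomputable section

namespace Groth.Agent.AVTransl

variable {k : Type u} [Field k] [IsAlgClosed k]
  {A B : Over (Spec (CommRingCat.of k))} [GrpObj A] [GrpObj B] (π : A ⟶ B) [IsMonHom π]

theorem etale_of_charZero [CharZero k] [IsProper A.hom] [IsProper B.hom] [Smooth B.hom] [IsFinite π.left]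
    [Surjective π.left] : Flat π.left ∧ Etale π.left := by
  haveI : IsReduced B.left := AlgSpLib.isReduced_of_smooth B.hom
  haveI hfl : Flat π.left := GrpField.flat_of_surjective_reduced π
  refine ⟨hfl, ?_⟩
  obtain ⟨N, _, i, _, _, hsq, -⟩ := AgIsog.exists_kernel π
  haveI : IsFinite N.hom := MorphismProperty.of_isPullback hsq inferInstance
  haveI : GrpObj (Over.mk N.hom) := inferInstanceAs (GrpObj N)
  haveI : Smooth N.hom := Cartier.smooth_of_charZero N.hom
  haveI : IsReduced N.left := AlgSpLib.isReduced_of_smooth N.hom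
  haveI : FormallyUnramified N.hom :=
    (FibCrit.unramified_iff_isReduced_discrete N.hom).2 ⟨inferInstance, SpQS.discrete_of_isFinite N.hom⟩
  haveI : Etale N.hom := Etale.of_formallyUnramified_of_flat N.hom
  have hK : Etale (pullback.snd π.left η[B].left) := by
    rw [show pullback.snd π.left η[B].left = hsq.isoPullback.inv ≫ N.hom from (hsq.isoPullback_inv_snd).symm]
    infer_instance
  apply MorphismProperty.of_pullback_snd_of_descendsAlong
    (Q := @Surjective ⊓ @Flat ⊓ @QuasiCompact) (f := π.left) (g := π.left)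
  · exact ⟨⟨inferInstance, inferInstance⟩, inferInstance⟩
  · exact Groth.Agent.GrpField.snd_self π @Etale hK

/-- Translation by a point. -/
abbrev trans (a : AVDeg.one' k ⟶ A) : A ⟶ A := 𝟙 A * (toUnit A ≫ a)

theorem trans_comp (a : AVDeg.one' k ⟶ A) (ha : a ≫ π = 1) : trans a ≫ π = π := by
  rw [MonObj.mul_comp, Category.id_comp, Category.assoc, ha, MonObj.comp_one, _root_.mul_one]

theorem comp_trans (p a : AVDeg.one' k ⟶ A) : p ≫ trans a = p * a := by
  rw [MonObj.comp_mul, Category.comp_id, ← Category.assoc, toUnit_unique (p ≫ toUnit A) (𝟙 _), Category.id_comp]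

/-- The graph of a translation in the fibre square. -/
def graph (a : {a : AVDeg.one' k ⟶ A // a ≫ π = 1}) : A.left ⟶ pullback π.left π.left :=
  pullback.lift (𝟙 A.left) (trans a.1).left (by
    rw [Category.id_comp]; exact (congrArg Over.Hom.left (trans_comp π a.1 a.2)).symm)

theorem isOpenImmersion_graph [Etale π.left] (a : {a : AVDeg.one' k ⟶ A // a ≫ π = 1}) :
    IsOpenImmersion (graph π a) :=
  EtInvariance.isOpenImmersion_section_etale (pullback.fst π.left π.left) _ (pullback.lift_fst _ _ _)

theorem exists_point {X : Over (Spec (CommRingCat.of k))} [LocallyOfFiniteType X.hom] (x : X.left)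
    (hx : IsClosed ({x} : Set X.left)) : ∃ p : AVDeg.one' k ⟶ X, p.left (IsLocalRing.closedPoint k) = x := by
  let p := (pointEquivClosedPoint X.hom).symm ⟨x, hx⟩
  exact ⟨Over.homMk p.1 p.2, congrArg Subtype.val ((pointEquivClosedPoint X.hom).apply_symm_apply ⟨x, hx⟩)⟩

theorem graph_disjoint [LocallyOfFiniteType A.hom] [Etale π.left] (a b : {a : AVDeg.one' k ⟶ A // a ≫ π = 1})
    (hab : a ≠ b) :
    haveI := isOpenImmersion_graph π a
    haveI := isOpenImmersion_graph π b
    Disjoint (graph π a).opensRange (graph π b).opensRange := by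
  haveI := isOpenImmersion_graph π a
  haveI := isOpenImmersion_graph π b
  haveI : JacobsonSpace A.left := LocallyOfFiniteType.jacobsonSpace A.hom
  rw [disjoint_iff, ← SetLike.coe_set_eq, Opens.coe_inf, Opens.coe_bot]
  by_contra hne
  obtain ⟨z, ⟨x, rfl⟩, hz⟩ := Set.nonempty_iff_ne_empty.2 hne
  obtain ⟨x', hx', hc⟩ := nonempty_inter_closedPoints (Z := graph π a ⁻¹' (graph π b).opensRange) ⟨x, hz⟩
    ((graph π b).opensRange.2.preimage (graph π a).continuous).isLocallyClosed
  obtain ⟨y, hy⟩ := hx'
  have hfst : ∀ (c : {a : AVDeg.one' k ⟶ A // a ≫ π = 1}) (w : A.left),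
      pullback.fst π.left π.left (graph π c w) = w := fun c w => by
    rw [← Scheme.Hom.comp_apply, graph, pullback.lift_fst]; rfl
  have hsnd : ∀ (c : {a : AVDeg.one' k ⟶ A // a ≫ π = 1}) (w : A.left),
      pullback.snd π.left π.left (graph π c w) = (trans c.1).left w := fun c w => by
    rw [← Scheme.Hom.comp_apply, graph, pullback.lift_snd]
  obtain rfl : y = x' := (hfst b y).symm.trans ((congrArg _ hy).trans (hfst a x'))
  obtain ⟨p, hp⟩ := exists_point y hc
  have e : p * a.1 = p * b.1 := by
    rw [← comp_trans, ← comp_trans]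
    refine AVDeg.point_ext ?_
    rw [Over.comp_left, Over.comp_left, Scheme.Hom.comp_apply, Scheme.Hom.comp_apply, hp, ← hsnd, ← hsnd, hy]
  exact hab (Subtype.ext (mul_left_cancel e))

theorem graph_cover [IsProper A.hom] [Etale π.left] (z : ↥(pullback π.left π.left)) :
    ∃ a x, graph π a x = z := by
  by_contra hz
  haveI : LocallyOfFiniteType (pullback.fst π.left π.left ≫ A.hom) := inferInstance
  haveI : JacobsonSpace ↥(pullback π.left π.left) :=
    LocallyOfFiniteType.jacobsonSpace (pullback.fst π.left π.left ≫ A.hom)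
  let U : Set ↥(pullback π.left π.left) := ⋃ a, Set.range (graph π a)
  have hU : IsOpen U := isOpen_iUnion fun a => by
    haveI := isOpenImmersion_graph π a
    exact (graph π a).isOpenEmbedding.isOpen_range
  obtain ⟨w, hw, hwc⟩ := nonempty_inter_closedPoints (Z := Uᶜ) ⟨z, fun h => by
    obtain ⟨a, x, hx⟩ := Set.mem_iUnion.1 h; exact hz ⟨a, x, hx⟩⟩ hU.isClosed_compl.isLocallyClosed
  haveI : LocallyOfFiniteType (Over.mk (pullback.fst π.left π.left ≫ A.hom)).hom := ‹_›
  obtain ⟨q, hq⟩ := exists_point (X := Over.mk (pullback.fst π.left π.left ≫ A.hom)) w hwc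
  let x : AVDeg.one' k ⟶ A := q ≫ Over.homMk (pullback.fst π.left π.left)
  let y : AVDeg.one' k ⟶ A := q ≫ Over.homMk (pullback.snd π.left π.left) (by
    show pullback.snd π.left π.left ≫ A.hom = pullback.fst π.left π.left ≫ A.hom
    rw [← Over.w π, ← pullback.condition_assoc])
  have hxy : x ≫ π = y ≫ π := by
    refine Over.OverMorphism.ext ?_
    show (q.left ≫ pullback.fst π.left π.left) ≫ π.left = (q.left ≫ pullback.snd π.left π.left) ≫ π.left
    rw [Category.assoc, Category.assoc, pullback.condition]
  have ha : (x⁻¹ * y) ≫ π = 1 := by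
    rw [MonObj.mul_comp, GrpObj.inv_comp, hxy, inv_mul_cancel]
  apply hw
  refine Set.mem_iUnion.2 ⟨⟨x⁻¹ * y, ha⟩, x.left (IsLocalRing.closedPoint k), ?_⟩
  have h : x.left ≫ graph π ⟨x⁻¹ * y, ha⟩ = q.left := by
    refine pullback.hom_ext ?_ ?_
    · rw [Category.assoc, graph, pullback.lift_fst, Category.comp_id]; rfl
    · rw [Category.assoc, graph, pullback.lift_snd, ← Over.comp_left, comp_trans, mul_inv_cancel_left]; rfl
  rw [← Scheme.Hom.comp_apply, h]
  exact hq

theorem main [CharZero k] [IsProper A.hom] [IsProper B.hom] [Smooth B.hom] [IsFinite π.left]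
    [Surjective π.left] (E : A.left.Modules) (hE : FlatMod.IsFinLocFree E) :
    Nonempty ((Scheme.Modules.pullback π.left).obj ((Scheme.Modules.pushforward π.left).obj E) ≅
      ∐ fun a : {a : AVDeg.one' k ⟶ A // a ≫ π = 1} => (Scheme.Modules.pullback (trans a.1).left).obj E) := by
  classical
  obtain ⟨hfl, het⟩ := etale_of_charZero π
  haveI := hfl; haveI := het
  haveI : Finite {a : AVDeg.one' k ⟶ A // a ≫ π = 1} := by
    have h := (AVDeg.natCard_fibre_le π (η[B] : AVDeg.one' k ⟶ B)).1
    rwa [show (1 : AVDeg.one' k ⟶ B) = η[B] by rw [Hom.one_def, toUnit_unit, Category.id_comp]]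
  haveI : ∀ a, IsOpenImmersion (graph π a) := isOpenImmersion_graph π
  have hbc := W7AffBC.isIso_baseChange (IsPullback.of_hasPullback π.left π.left).flip E
    (LocFree.isQCoh_of_isFinLocFree hE)
  obtain ⟨e⟩ := nonempty_push_iso (j' := fun a => graph π a) (pullback.fst π.left π.left)
    (fun a => pullback.lift_fst _ _ _) (fun a b h => graph_disjoint π a b h)
    (fun z => graph_cover π z) ((Scheme.Modules.pullback (pullback.snd π.left π.left)).obj E)
  haveI : HasFiniteBiproducts A.left.Modules := HasFiniteBiproducts.of_hasFiniteProducts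
  exact ⟨@asIso _ _ _ _ _ hbc ≪≫ e ≪≫ Sigma.mapIso fun a =>
    (Scheme.Modules.pullbackComp (graph π a) (pullback.snd π.left π.left)).app E ≪≫
      (Scheme.Modules.pullbackCongr (pullback.lift_snd _ _ _)).app E⟩

end Groth.Agent.AVTransl
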